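import Groth.Prelude.Def_Disp2
import Groth.Agent.DispLib.Basic
import Mathlib.RingTheory.WittVector.Teichmuller
import Mathlib.RingTheory.Flat.FaithfullyFlat.Algebra

/-!
# Descent of homomorphisms of displays: preparations
-/

universe u v

namespace Groth.Agent.H84DispDescent

open WittVector TensorProduct

theorem castHom_castHom {A B : Type u} [CommRing A] [CommRing B] {g g' g'' : A →+* B} {P : Type v} [AddCommGroup P]
    [Module A P] (e₁ : g = g') (e₂ : g' = g'') (z : Dieu.BC g P) :
    Dieu.BC.castHom e₂ (Dieu.BC.castHom e₁ z) = Dieu.BC.castHom (e₁.trans e₂) z := by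
  subst e₁; subst e₂; rfl

theorem castHom_refl {A B : Type u} [CommRing A] [CommRing B] {g : A →+* B} {P : Type v} [AddCommGroup P]
    [Module A P] (e : g = g) (z : Dieu.BC g P) : Dieu.BC.castHom e z = z := rfl

variable {p : ℕ} [Fact p.Prime] {S R : Type u} [CommRing S] [CommRing R] [Algebra S R] [Module.FaithfullyFlat S R]

/-- A module killed by `I_S` injects into its base change along `W(S) → R`. -/
theorem eq_zero_of_tmul_eq_zero (M : Type v) [AddCommGroup M] [Module (WittVector p S) M]
    (hM : ∀ (a : WittVector p S) (m : M), WittVector.constantCoeff a = 0 → a • m = 0)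
    (g : WittVector p S →+* R) (hg : ∀ a, g a = algebraMap S R (WittVector.constantCoeff a)) (m : M)
    (hm : Dieu.BC.tmul g 1 m = 0) : m = 0 := by
  letI : SMul S M := ⟨fun r m => teichmuller p r • m⟩
  have hsurj : Function.Surjective (WittVector.constantCoeff : WittVector p S →+* S) :=
    fun r => ⟨teichmuller p r, teichmuller_coeff_zero p r⟩
  have hsmul : ∀ (c : WittVector p S) (x : M), WittVector.constantCoeff c • x = c • x := fun c x => by
    change teichmuller p (WittVector.constantCoeff c) • x = c • x
    rw [← sub_eq_zero, ← sub_smul]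
    refine hM _ _ ?_
    rw [map_sub, show WittVector.constantCoeff (teichmuller p (WittVector.constantCoeff c)) = WittVector.constantCoeff c
      from teichmuller_coeff_zero p _, sub_self]
  letI : Module S M := Function.Surjective.moduleLeft _ hsurj hsmul
  let φ : M →ₛₗ[g] R ⊗[S] M :=
    { toFun := fun x => (1 : R) ⊗ₜ[S] x
      map_add' := fun x y => tmul_add _ _ _
      map_smul' := fun a x => by
        rw [← hsmul, tmul_smul, TensorProduct.smul_tmul', TensorProduct.smul_tmul', hg, smul_eq_mul,
          Algebra.smul_def] }
  have h := congrArg (Dieu.BC.lift g φ) hm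
  rw [Dieu.BC.lift_tmul, one_smul, map_zero] at h
  exact Module.FaithfullyFlat.tensorProduct_mk_injective (A := S) (B := R) M (h.trans (tmul_zero M (1 : R)).symm)

end Groth.Agent.H84DispDescent
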